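import Groth.Agent.L14.Luna.SemiRank.SplitField
import Groth.Agent.L14.Chev.Cell.SimpleCoverGlobal
import Groth.Agent.L14.AlmostSimple.Torus
import Groth.Agent.L08.TorusWeights.TorusPreimage
import Groth.Agent.L25.GaPts

/-!
# Central points of a split reductive group are the points of the torus killed by the roots
-/

set_option autoImplicit false
set_option linter.style.haveILetI false
set_option linter.unusedSectionVars false
set_option backward.isDefEq.respectTransparency.types false

universe u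

open CategoryTheory CategoryTheory.Limits MonoidalCategory CartesianMonoidalCategory MonObj AlgebraicGeometry
open Groth.L25

noncomputable section

namespace Groth.L15.AdjCentre

variable {S : Scheme.{u}} {G : Over S} [GrpObj G] (D : Red.SplitRed G)

/-- The torus is commutative. -/
theorem torus_commute {X : Over S} (t t' : X ⟶ D.T) : t * t' = t' * t := by
  haveI : IsMonHom D.split.hom.hom.hom := D.split.hom.hom.isMonHom_hom
  haveI : IsIso D.split.hom.hom.hom :=
    ⟨D.split.inv.hom.hom, congrArg (fun f => f.hom.hom) D.split.hom_inv_id,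
      congrArg (fun f => f.hom.hom) D.split.inv_hom_id⟩
  rw [← cancel_mono D.split.hom.hom.hom, MonObj.mul_comp, MonObj.mul_comp]
  refine DSPts.char_injective ?_
  rw [DSPts.char_mul, DSPts.char_mul, mul_comm]

/-- Points of the torus on which a root is trivial commute with its root subgroup. -/
theorem commute_root {X : Over S} (t : X ⟶ D.T) (a : D.idx)
    (ht : DSPts.char (t ≫ D.split.hom.hom.hom) (Multiplicative.ofAdd (D.P.root a)) = 1) (x : X ⟶ Red.Ga S) :
    (t ≫ D.i) * (x ≫ D.u a) = (x ≫ D.u a) * (t ≫ D.i) := by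
  obtain ⟨y, hy, hy'⟩ := (D.rootHom a).2.2 X t x
  rw [← Category.assoc t, Groth.L14.Luna.SemiRank.gmFn_chi', ht, _root_.one_mul] at hy'
  rw [GaPts.gaFn_injective hy'] at hy
  exact mul_inv_eq_iff_eq_mul.mp hy.symm

/-- Points of the torus on which all roots are trivial commute with all points. -/
theorem commute_of_char {X : Over S} (t : X ⟶ D.T)
    (ht : ∀ a, DSPts.char (t ≫ D.split.hom.hom.hom) (Multiplicative.ofAdd (D.P.root a)) = 1)
    (h : X ⟶ G) : (t ≫ D.i) * h = h * (t ≫ D.i) := by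
  have htc : ∀ {Y : Over S} (y : Y ⟶ X) (a : D.idx),
      DSPts.char ((y ≫ t) ≫ D.split.hom.hom.hom) (Multiplicative.ofAdd (D.P.root a)) = 1 := fun y a => by
    rw [Category.assoc, DSPts.char_comp, ht, map_one]
  rcases isEmpty_or_nonempty X.left with hX | hX
  · exact Over.OverMorphism.ext ((isInitialOfIsEmpty (X := X.left)).hom_ext _ _)
  haveI : Nonempty S := ⟨X.hom hX.some⟩
  haveI : Finite D.idx := Finite.of_fintype _
  haveI hi : IsMonHom D.i := D.maximalTorus.1
  obtain ⟨b⟩ := Groth.L14.AlmostSimple.exists_base D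
  have henum : ∀ A : Set D.idx, ∃ (n : ℕ) (e : Fin n → D.idx), RedSub.Enumerates A e := fun A => by
    obtain ⟨n, ⟨σ⟩⟩ := Finite.exists_equiv_fin A
    exact ⟨n, fun j => (σ.symm j).1, Subtype.val_injective.comp σ.symm.injective, by
      ext a
      constructor
      · rintro ⟨j, rfl⟩; exact (σ.symm j).2
      · exact fun ha => ⟨σ ⟨a, ha⟩, by simp⟩⟩
  obtain ⟨n, eneg, hneg⟩ := henum (RedSub.negRoots D.P b)
  obtain ⟨m, epos, hpos⟩ := henum (RedSub.posRoots D.P b)
  let one : 𝟙_ (Over S) ⟶ Red.Ga S := GaPts.ptOfElt 1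
  let U := Submonoid.closure {g : 𝟙_ (Over S) ⟶ G | ∃ a ∈ b.support, g = one ≫ D.u a}
  -- words in the root groups commute with the point
  have hU : ∀ w ∈ U, ∀ {Y : Over S} (y : Y ⟶ X), Commute (y ≫ t ≫ D.i) (toUnit Y ≫ w) := fun w hw => by
    induction hw using Submonoid.closure_induction with
    | mem w hw =>
      obtain ⟨a, -, rfl⟩ := hw
      intro Y y
      have h' := commute_root D (y ≫ t) a (htc y a) (toUnit Y ≫ one)
      simp only [Category.assoc] at h'
      exact h'
    | one => intro Y y; rw [comp_one]; exact Commute.one_right _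
    | mul v w _ _ hv hw' => intro Y y; rw [comp_mul]; exact (hv y).mul_right (hw' y)
  -- ordered products of root group points commute with the point
  have hprod : ∀ (k : ℕ) (e : Fin k → D.idx) {Y : Over S} (y : Y ⟶ X) (q : Y ⟶ RedSub.pow (Red.Ga S) k),
      Commute (y ≫ t ≫ D.i) (q ≫ RedSub.prodMap (Red.Ga S) k (fun l => D.u (e l))) := by
    intro k
    induction k with
    | zero =>
      intro e Y y q
      show Commute _ (q ≫ (1 : RedSub.pow (Red.Ga S) 0 ⟶ G))
      rw [comp_one]
      exact Commute.one_right _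
    | succ k ih =>
      intro e Y y q
      let q₂ : Y ⟶ Red.Ga S ⊗ RedSub.pow (Red.Ga S) k := q
      show Commute _ (q₂ ≫ ((fst (Red.Ga S) (RedSub.pow (Red.Ga S) k) ≫ D.u (e 0)) *
        (snd (Red.Ga S) (RedSub.pow (Red.Ga S) k) ≫ RedSub.prodMap (Red.Ga S) k (fun l => D.u (e l.succ)))))
      rw [comp_mul, ← Category.assoc q₂, ← Category.assoc q₂]
      refine Commute.mul_right ?_ (ih (fun l => e l.succ) y _)
      have h' := commute_root D (y ≫ t) (e 0) (htc y _) (q₂ ≫ fst _ _)
      simp only [Category.assoc] at h' ⊢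
      exact h'
  have hcell : ∀ {Y : Over S} (y : Y ⟶ X) (q : Y ⟶ RedSub.pow (Red.Ga S) n ⊗ (D.T ⊗ RedSub.pow (Red.Ga S) m)),
      Commute (y ≫ t ≫ D.i) (q ≫ RedSub.cellMap D eneg epos) := fun y q => by
    rw [RedSub.cellMap, comp_mul, comp_mul, ← Category.assoc q, ← Category.assoc q (snd _ _),
      ← Category.assoc (q ≫ snd _ _) (fst _ _), ← Category.assoc q (snd _ _), ← Category.assoc (q ≫ snd _ _) (snd _ _)]
    refine (hprod n eneg y _).mul_right (Commute.mul_right ?_ (hprod m epos y _))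
    show (y ≫ t ≫ D.i) * (((q ≫ snd _ _) ≫ fst _ _) ≫ D.i) = (((q ≫ snd _ _) ≫ fst _ _) ≫ D.i) * (y ≫ t ≫ D.i)
    rw [← Category.assoc y t, ← MonObj.mul_comp, ← MonObj.mul_comp, torus_commute]
  -- translates of the big cell cover
  let C : U → (RedSub.pow (Red.Ga S) n ⊗ (D.T ⊗ RedSub.pow (Red.Ga S) m) ⟶ G) := fun w =>
    (toUnit _ ≫ (w : 𝟙_ (Over S) ⟶ G)) * RedSub.cellMap D eneg epos
  haveI hC : ∀ w : U, IsOpenImmersion (C w).left := fun w => by
    haveI : IsOpenImmersion (RedSub.cellMap D eneg epos).left :=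
      Groth.L14.Chev.Cell.isOpenImmersion_cellMap hneg hpos
    let v : 𝟙_ (Over S) ⟶ G := (w : 𝟙_ (Over S) ⟶ G)
    let τ : G ≅ G := ⟨(toUnit G ≫ v) * 𝟙 G, (toUnit G ≫ v⁻¹) * 𝟙 G, by
        rw [comp_mul, ← Category.assoc, comp_toUnit, Category.comp_id, GrpObj.comp_inv, inv_mul_cancel_left],
      by rw [comp_mul, ← Category.assoc, comp_toUnit, Category.comp_id, GrpObj.comp_inv, mul_inv_cancel_left]⟩
    have hf : C w = RedSub.cellMap D eneg epos ≫ τ.hom := by
      simp only [C, τ, v, comp_mul, comp_toUnit_assoc, Category.comp_id]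
    haveI : IsIso τ.hom.left := ((Over.forget _).mapIso τ).isIso_hom
    rw [hf, Over.comp_left]
    infer_instance
  let W : U → X.left.Opens := fun w => h.left ⁻¹ᵁ (C w).left.opensRange
  let 𝒰 : X.left.OpenCover := X.left.openCoverOfIsOpenCover W (eq_top_iff.mpr fun p _ => by
    obtain ⟨w, hw, hp⟩ := Groth.L14.Chev.Cell.exists_translate_simple (D := D) hneg hpos (fun _ => one)
      (fun a _ => by rw [GaPts.gaFn_ptOfElt]; exact isUnit_one) (h.left p)
    exact TopologicalSpace.Opens.mem_iSup.mpr ⟨⟨w, hw⟩, hp⟩)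
  refine Over.OverMorphism.ext (𝒰.hom_ext _ _ fun (w : U) => ?_)
  let Y : Over S := Over.mk ((W w).ι ≫ X.hom)
  let y : Y ⟶ X := Over.homMk (W w).ι
  let q := IsOpenImmersion.lift (C w).left ((W w).ι ≫ h.left) (by rintro _ ⟨p, rfl⟩; exact p.2)
  have hq : q ≫ (C w).left = (W w).ι ≫ h.left := IsOpenImmersion.lift_fac _ _ _
  let q' : Y ⟶ RedSub.pow (Red.Ga S) n ⊗ (D.T ⊗ RedSub.pow (Red.Ga S) m) := Over.homMk q (by
    rw [← Over.w (C w), ← Category.assoc, hq, Category.assoc, Over.w h]
    rfl)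
  have hq' : q' ≫ C w = y ≫ h := Over.OverMorphism.ext hq
  have key : y ≫ ((t ≫ D.i) * h) = y ≫ (h * (t ≫ D.i)) := by
    simp only [comp_mul, ← hq', C, comp_toUnit_assoc]
    exact ((hU w w.2 y).mul_right (hcell y q')).eq
  exact congrArg CommaMorphism.left key

/-- In a split group whose roots generate the characters the central points are trivial. -/
theorem eq_one_of_central (hspan : Submodule.span ℤ (Set.range D.P.root) = ⊤) {X : Over S} (g : X ⟶ G)
    (hg : ∀ (X' : Over S) (x : X' ⟶ X) (h : X' ⟶ G), (x ≫ g) * h = h * (x ≫ g)) : g = 1 := by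
  haveI hi : IsMonHom D.i := D.maximalTorus.1
  haveI : IsMonHom D.split.hom.hom.hom := D.split.hom.hom.isMonHom_hom
  obtain ⟨t, rfl⟩ := ((Groth.L08.TorusWeights.isCentralizerOf_self D.reductive D.maximalTorus).2.2 X g).2
    fun X' x h => hg X' x (h ≫ D.i)
  have ha : ∀ a, DSPts.char (t ≫ D.split.hom.hom.hom) (Multiplicative.ofAdd (D.P.root a)) = 1 := fun a => by
    obtain ⟨y, hy, hy'⟩ := (D.rootHom a).2.2 X t (GaPts.ptOfElt 1)
    have h1 := hg X (𝟙 X) (GaPts.ptOfElt 1 ≫ D.u a)
    rw [Category.id_comp] at h1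
    rw [h1, mul_inv_cancel_right] at hy
    haveI := (D.rootHom a).2.1
    haveI : Mono (D.u a).left := inferInstance
    haveI : Mono (D.u a) := Over.mono_of_mono_left _
    rw [(cancel_mono (D.u a)).1 hy, ← Category.assoc t, Groth.L14.Luna.SemiRank.gmFn_chi',
      GaPts.gaFn_ptOfElt, _root_.mul_one] at hy'
    exact hy'.symm
  have hall : ∀ m : D.M, DSPts.char (t ≫ D.split.hom.hom.hom) (Multiplicative.ofAdd m) = 1 := fun m => by
    have hm : m ∈ Submodule.span ℤ (Set.range D.P.root) := hspan ▸ Submodule.mem_top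
    rw [← Submodule.mem_toAddSubgroup, Submodule.span_int_eq_addSubgroupClosure] at hm
    induction hm using AddSubgroup.closure_induction with
    | mem v hv => obtain ⟨a, rfl⟩ := hv; exact ha a
    | zero => rw [ofAdd_zero, map_one]
    | add v w _ _ hv hw => rw [ofAdd_add, map_mul, hv, hw, _root_.one_mul]
    | neg v _ hv =>
      have : DSPts.char (t ≫ D.split.hom.hom.hom) (Multiplicative.ofAdd (v + -v)) = 1 := by
        rw [add_neg_cancel, ofAdd_zero, map_one]
      rw [ofAdd_add, map_mul, hv, _root_.one_mul] at this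
      exact this
  haveI : IsIso D.split.hom.hom.hom :=
    ⟨D.split.inv.hom.hom, congrArg (fun f => f.hom.hom) D.split.hom_inv_id,
      congrArg (fun f => f.hom.hom) D.split.inv_hom_id⟩
  have ht : t = 1 := by
    rw [← cancel_mono D.split.hom.hom.hom, one_comp]
    refine DSPts.char_injective (MonoidHom.ext fun m => ?_)
    rw [DSPts.char_one]
    exact hall m.toAdd
  rw [ht, one_comp]

/-- Over a field, if the roots do not generate the characters there is a non-trivial central point. -/
theorem exists_central_ne_one [Nonempty S] (hspan : Submodule.span ℤ (Set.range D.P.root) ≠ ⊤) :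
    ∃ (X : Over S) (g : X ⟶ G), (∀ (X' : Over S) (x : X' ⟶ X) (h : X' ⟶ G), (x ≫ g) * h = h * (x ≫ g)) ∧
      g ≠ 1 := by
  haveI hi : IsMonHom D.i := D.maximalTorus.1
  haveI := D.maximalTorus.2.1
  haveI : IsMonHom D.split.hom.hom.hom := D.split.hom.hom.isMonHom_hom
  haveI : IsIso D.split.hom.hom.hom :=
    ⟨D.split.inv.hom.hom, congrArg (fun f => f.hom.hom) D.split.hom_inv_id,
      congrArg (fun f => f.hom.hom) D.split.inv_hom_id⟩
  obtain ⟨s⟩ := ‹Nonempty S›
  let Q := Submodule.span ℤ (Set.range D.P.root)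
  obtain ⟨m, hm⟩ : ∃ m, m ∉ Q := by
    by_contra hc
    exact hspan (eq_top_iff.2 fun m _ => not_not.1 fun hm => hc ⟨m, hm⟩)
  let K := AlgebraicClosure (S.residueField s)
  let A := MonoidAlgebra K (Multiplicative (D.M ⧸ Q))
  let X : Over S := Over.mk (Spec.map (CommRingCat.ofHom (algebraMap K A)) ≫ Red.geomPt s)
  let χ : Multiplicative D.M →* Γ(X.left, ⊤) :=
    ((Scheme.ΓSpecIso (CommRingCat.of A)).inv.hom.toMonoidHom.comp
      (MonoidAlgebra.of K (Multiplicative (D.M ⧸ Q)))).comp Q.mkQ.toAddMonoidHom.toMultiplicative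
  have hχ : ∀ v : D.M, χ (Multiplicative.ofAdd v) = 1 ↔ v ∈ Q := fun v => by
    have h0 : χ (Multiplicative.ofAdd v) = (Scheme.ΓSpecIso (CommRingCat.of A)).inv.hom
        (MonoidAlgebra.single (Multiplicative.ofAdd (Q.mkQ v)) (1 : K)) := rfl
    rw [h0, ← Submodule.Quotient.mk_eq_zero Q]
    constructor
    · intro h
      have h' := congrArg (Scheme.ΓSpecIso (CommRingCat.of A)).hom.hom h
      rw [← CommRingCat.comp_apply, Iso.inv_hom_id, map_one, MonoidAlgebra.one_def] at h'
      exact Multiplicative.ofAdd.injective (MonoidAlgebra.single_left_injective one_ne_zero h')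
    · intro h
      rw [show Q.mkQ v = 0 from h, ofAdd_zero, ← MonoidAlgebra.one_def, map_one]
  let t : X ⟶ D.T := DSPts.pt χ ≫ D.split.inv.hom.hom
  have ht : t ≫ D.split.hom.hom.hom = DSPts.pt χ := by
    rw [Category.assoc]
    exact (congrArg (DSPts.pt χ ≫ ·) (congrArg (fun f => f.hom.hom) D.split.inv_hom_id)).trans (Category.comp_id _)
  refine ⟨X, t ≫ D.i, fun X' x h => ?_, fun hc => hm ?_⟩
  · rw [← Category.assoc]
    refine commute_of_char D (x ≫ t) (fun a => ?_) h
    rw [Category.assoc, DSPts.char_comp, ht, DSPts.char_pt, (hχ _).2 (Submodule.subset_span ⟨a, rfl⟩), map_one]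
  · rw [← (hχ m), ← DSPts.char_pt χ (S := S) (T := X), ← ht,
      (cancel_mono D.i).1 (hc.trans (one_comp (f := D.i) (X := X)).symm), one_comp, DSPts.char_one]
    rfl

end Groth.L15.AdjCentre
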