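import Groth.Agent.L15.AdjCentre.Split
import Groth.Agent.L14.Splitting.Compare
import Groth.Agent.L14.Splitting.Etale
import Groth.Agent.L08.Borel.RedRank
import Mathlib.AlgebraicGeometry.Morphisms.Flat

/-!
# A reductive group is adjoint iff its centre is trivial
-/

set_option autoImplicit false
set_option linter.style.haveILetI false
set_option linter.unusedSectionVars false
set_option backward.isDefEq.respectTransparency.types false

universe u

open CategoryTheory CategoryTheory.Limits MonoidalCategory CartesianMonoidalCategory MonObj AlgebraicGeometry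
open Groth.L25

noncomputable section

namespace Groth.L15.AdjCentre

variable {S V : Scheme.{u}} (j : V ⟶ S) {G : Over S} [GrpObj G]

/-- Central points stay central after base change. -/
theorem central_ofBase {Y : Over V} (g : Over.mk (Y.hom ≫ j) ⟶ G)
    (hg : ∀ (X' : Over S) (x : X' ⟶ Over.mk (Y.hom ≫ j)) (h : X' ⟶ G), (x ≫ g) * h = h * (x ≫ g))
    (X' : Over V) (x : X' ⟶ Y) (h : X' ⟶ Red.bc j G) :
    (x ≫ NilAction.ofBase j g) * h = h * (x ≫ NilAction.ofBase j g) := by
  refine Groth.L14.Luna.SemiRank.toBase_inj j ?_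
  rw [NilAction.toBase_mul, NilAction.toBase_mul, CentralLift.toBase_comp, NilAction.toBase_ofBase]
  exact hg _ _ _

/-- Points central in a base change are central over the base. -/
theorem central_toBase {Y : Over V} (g : Y ⟶ Red.bc j G)
    (hg : ∀ (X' : Over V) (x : X' ⟶ Y) (h : X' ⟶ Red.bc j G), (x ≫ g) * h = h * (x ≫ g))
    (X' : Over S) (x : X' ⟶ Over.mk (Y.hom ≫ j)) (h : X' ⟶ G) :
    (x ≫ NilAction.toBase j g) * h = h * (x ≫ NilAction.toBase j g) := by
  have hw : X'.hom = (x.left ≫ Y.hom) ≫ j := by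
    rw [Category.assoc]
    exact (Over.w x).symm
  let X₁ : Over V := Over.mk (x.left ≫ Y.hom)
  let x₁ : X₁ ⟶ Y := Over.homMk x.left
  let h₁ : X₁ ⟶ Red.bc j G := NilAction.ofBase j (Over.homMk h.left ((Over.w h).trans hw))
  have e := congrArg (NilAction.toBase j) (hg X₁ x₁ h₁)
  rw [NilAction.toBase_mul, NilAction.toBase_mul, CentralLift.toBase_comp, NilAction.toBase_ofBase] at e
  let c : X' ⟶ Over.mk (X₁.hom ≫ j) := Over.homMk (𝟙 X'.left) (by
    show 𝟙 _ ≫ (x.left ≫ Y.hom) ≫ j = X'.hom
    rw [Category.id_comp, hw])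
  have e' := congrArg (c ≫ ·) e
  simp only [comp_mul] at e'
  have hx : c ≫ (Over.homMk x₁.left (by
      show x₁.left ≫ Y.hom ≫ j = X₁.hom ≫ j
      rw [← Category.assoc, Over.w x₁]) : Over.mk (X₁.hom ≫ j) ⟶ Over.mk (Y.hom ≫ j)) = x :=
    Over.OverMorphism.ext (Category.id_comp _)
  have hh : c ≫ (Over.homMk h.left ((Over.w h).trans hw) : Over.mk (X₁.hom ≫ j) ⟶ G) = h :=
    Over.OverMorphism.ext (Category.id_comp _)
  rw [← Category.assoc c, hx, hh] at e'
  exact e'

/-- Root data are preserved by equivalences. -/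
theorem span_eq_top_of_equiv {J J' M M' N N' : Type} [AddCommGroup M] [AddCommGroup M'] [AddCommGroup N] [AddCommGroup N']
    {P : RootPairing J ℤ M N} {Q : RootPairing J' ℤ M' N'} (e : RootPairing.Equiv P Q)
    (h : Submodule.span ℤ (Set.range P.root) = ⊤) : Submodule.span ℤ (Set.range Q.root) = ⊤ := by
  refine eq_top_iff.2 fun m _ => ?_
  obtain ⟨m', rfl⟩ := e.bijective_weightMap.2 m
  have hm : e.toHom.weightMap m' ∈ (Submodule.span ℤ (Set.range P.root)).map e.toHom.weightMap :=
    Submodule.mem_map_of_mem (h ▸ Submodule.mem_top)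
  rw [Submodule.map_span] at hm
  refine Submodule.span_mono ?_ hm
  rintro _ ⟨_, ⟨a, rfl⟩, rfl⟩
  exact ⟨e.indexEquiv a, (RootPairing.Hom.root_weightMap_apply P Q a e.toHom).symm⟩

/-- A reductive group is adjoint iff its centre is trivial. -/
theorem adjoint_iff_centre_trivial (G : Over S) [GrpObj G] (hG : Red.IsReductive G) :
    (∀ (s : S) (D : Red.SplitRed (Red.geomFibre s G)), Submodule.span ℤ (Set.range D.P.root) = ⊤) ↔
      ∀ (X : Over S) (g : X ⟶ G), (∀ (X' : Over S) (x : X' ⟶ X) (h : X' ⟶ G), (x ≫ g) * h = h * (x ≫ g)) →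
        g = 1 := by
  constructor
  · intro hadj X g hg
    have hs : ∀ s : S, ∃ (V : Scheme.{u}) (f : V ⟶ S), Etale f ∧ s ∈ Set.range f ∧
        ∃ D : Red.SplitRed (Red.bc f G), Submodule.span ℤ (Set.range D.P.root) = ⊤ := fun s => by
      obtain ⟨V, f, hf, hsf, hGf, T, _, i, r, hi, ⟨R⟩⟩ := Groth.L14.Splitting.exists_rootData_etale' hG s
      haveI := hf
      obtain ⟨σ, hσ⟩ := Groth.L08.Borel.exists_geomPt_lift f hsf
      obtain ⟨D', ⟨e⟩⟩ := Groth.L14.Splitting.exists_splitRed_comp f σ hσ hG R hi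
      exact ⟨V, f, hf, hsf, R.splitRed (fun _ => trivial) hGf hi, span_eq_top_of_equiv e (hadj s D')⟩
    choose V f hf hsf D hD using hs
    haveI := hf
    let F : (∐ fun x : X.left => pullback X.hom (f (X.hom x))) ⟶ X.left :=
      Sigma.desc fun x => pullback.fst X.hom (f (X.hom x))
    haveI : Flat F := IsZariskiLocalAtSource.sigmaDesc (P := @Flat) fun x => by
      haveI : Flat (f (X.hom x)) := inferInstance
      infer_instance
    haveI : Surjective F := ⟨fun x => by
      obtain ⟨z, hz⟩ : x ∈ Set.range (pullback.fst X.hom (f (X.hom x))) := by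
        rw [Scheme.Pullback.range_fst]
        exact hsf (X.hom x)
      exact ⟨Sigma.ι (fun x : X.left => pullback X.hom (f (X.hom x))) x z, by
        rw [← Scheme.Hom.comp_apply, Sigma.ι_desc]; exact hz⟩⟩
    haveI := AlgebraicGeometry.Flat.epi_of_flat_of_surjective F
    refine Over.OverMorphism.ext ((cancel_epi F).1 (Sigma.hom_ext _ _ fun x => ?_))
    rw [← Category.assoc, ← Category.assoc, Sigma.ι_desc]
    let Y : Over (V (X.hom x)) := Over.mk (pullback.snd X.hom (f (X.hom x)))
    let q : Over.mk (Y.hom ≫ f (X.hom x)) ⟶ X :=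
      Over.homMk (pullback.fst X.hom (f (X.hom x))) pullback.condition
    have h1 : NilAction.ofBase (f (X.hom x)) (q ≫ g) = 1 :=
      eq_one_of_central (D (X.hom x)) (hD _) _ (central_ofBase _ (q ≫ g) fun X' y h => by
        rw [← Category.assoc]; exact hg X' (y ≫ q) h)
    have h2 := congrArg (NilAction.toBase (f (X.hom x))) h1
    rw [NilAction.toBase_ofBase, NilAction.toBase_one] at h2
    exact (congrArg CommaMorphism.left h2).trans
      (congrArg CommaMorphism.left (comp_one (M := G) q).symm)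
  · intro hc s D
    by_contra hspan
    obtain ⟨X, g, hg, hne⟩ := exists_central_ne_one D hspan
    refine hne (Groth.L14.Luna.SemiRank.toBase_inj (Red.geomPt s) ?_)
    rw [NilAction.toBase_one]
    exact hc _ _ (central_toBase (Red.geomPt s) g hg)

end Groth.L15.AdjCentre
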